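import Cfsg.Agent.Omega.NO3b.Wc.Frame
import Cfsg.Agent.Omega.NO3b.Union.Line
import Cfsg.Agent.Omega.NOne.Flat.OffMod

/-!
# The w.c. frame (#16346 (B), helper672), part (v), for an arbitrary group `L` in place of `P`

`Root S L` (`Wc/Frame.lean`), `V_L ≤ O₂(C_G(Ω₁(Z(S))))`, `V = ⟨Ω₁(Z(S))^M⟩`, `M = N_G(W^)`.

* `StmtOff G` : THEOREM OFF (socket; `|V : E| = 2` is `Flat.off_two`);
* `Root.invU` : the invariant of helper1's union text (`Union.InvU S L M`);
* `Root.good` : **(v)**: no `1 ≠ F ≤ V` is bad: `V ≤ O₂(C_G(F))`;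
* `Root.alpha` : `Union.Alpha S L M`, so that the situations `Union.Sit` (lines `V ∩ V^x = F`, K0) are available;
* `Root.low`, `Root.lines'` : `V ≤ O₂(C_G(Ω₁(Z(S))))` and helper25's `NoEmp.Lines S W^ V`.
-/

set_option autoImplicit false

namespace Cfsg.Agent.Omega.NO3b.Wc

open Subgroup Cfsg
open Cfsg.Agent.ZN (o2 zc zl jj zj)
open Cfsg.Agent.ZN.ChoiceBase hiding mem_zc
open Cfsg.Agent.Omega.MinPar Cfsg.Agent.Omega.Frame
open Cfsg.Agent.Omega.NO3b.EZero (NotFF)
open Cfsg.Agent.Omega.FFThm (ElemM OffM)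
open Cfsg.Agent.Omega.NOne.Flat (Bad EE WW)
open Cfsg.Agent.Omega.NO3b.Union (badFam badFam_cj card_lt not_WW_le)
open Cfsg.Agent.MinSimple.VModule (le_normalizer_zl le_normalizer_o2 o2_isPGroup le_o2)

universe u

variable {G : Type u} [Group G]

/-- THEOREM OFF. -/
def StmtOff (G : Type u) [Group G] : Prop := ∀ V F : Subgroup G, NOne.Flat.Hyp V F →
  ∀ E0 : Subgroup G, F ≤ E0 → E0 ≤ EE V F →
    F.relIndex E0 ≤ (centralizer (E0 : Set G)).relIndex (WW V F)

/-- `O₂(X) ∩ Y ≤ O₂(Y)` for `Y ≤ X`. -/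
theorem o2_inf_le {X Y : Subgroup G} (hYX : Y ≤ X) : o2 X ⊓ Y ≤ o2 Y := by
  refine le_o2 inf_le_right ((o2_isPGroup X).to_le inf_le_left) ?_
  intro y hy
  rw [mem_normalizer_iff_cj, cj_inf, cj_eq_of_mem_normalizer (le_normalizer_o2 X (hYX hy)),
    cj_eq_of_mem_normalizer (Subgroup.le_normalizer hy)]

namespace Root

variable [Finite G] {S : Sylow 2 G} {L : Subgroup G} (h : Root S L)
include h

/-- The invariant of the union text. -/
theorem invU : Union.InvU (S : Subgroup G) L (ML (S : Subgroup G) L) where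
  SM := h.S_le
  PM := h.L_le
  el := PLocal.ThompsonJ.isElementaryAbelian_iff.2
    ⟨fun _ ha _ hb => mem_centralizer_iff.1 (h.V_comm hb) _ ha, h.V_sq⟩
  J := fun T h1 h2 => norm_le (h.cs_V.ge.trans h1) h2
  U := fun g T h1 h2 h3 _ => mem_ML_of_le (by
    have h4 := (cj_mono g h.cs_V.ge).trans (h3.trans h2)
    exact h4)

/-- No offender on `V_L` in module form. -/
theorem not_offM {A : Subgroup G} (hA : A ≤ (S : Subgroup G)) : ¬ OffM (zl (S : Subgroup G) L) A := by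
  intro hoff
  have h3 := h.nff A (S.isPGroup'.to_le hA) (hA.trans (h.le.trans (le_normalizer_zl _ _))) hoff.sq hoff.comm
    hoff.ne
  exact absurd (FFThm.relIndex_le_iff.1 hoff.le) (not_le.2 h3)

theorem V_two : IsPGroup 2 (VL (S : Subgroup G) L : Subgroup G) := NO3b.NoEmp.pgroup_of_sq h.V_sq

/-- The hypotheses of THEOREM FLAT. -/
theorem flatHyp (hc : IsCharacteristicTwoType G) {F : Subgroup G} (hF : Bad (VL (S : Subgroup G) L) F)
    (hmax : ∀ D : Subgroup G, Bad (VL (S : Subgroup G) L) D → F ≤ D → D = F) :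
    NOne.Flat.Hyp (VL (S : Subgroup G) L) F :=
  Union.flatHyp hc h.invU h.V_nff hF hmax

/-- **(v)**, BETA: there is no bad subgroup. -/
theorem not_bad (hc : IsCharacteristicTwoType G) (hoff : StmtOff G)
    (hz : zl (S : Subgroup G) L ≤ o2 (centralizer (zc (S : Subgroup G) : Set G))) (F₀ : Subgroup G) :
    ¬ Bad (VL (S : Subgroup G) L) F₀ := by
  intro hF₀
  obtain ⟨F, -, hF, hmax⟩ : ∃ F, F₀ ≤ F ∧ Bad (VL (S : Subgroup G) L) F ∧
      ∀ D : Subgroup G, Bad (VL (S : Subgroup G) L) D → F ≤ D → D = F := by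
    obtain ⟨F, hF1, hF2⟩ := Set.Finite.exists_le_maximal
      (Set.toFinite {F : Subgroup G | Bad (VL (S : Subgroup G) L) F}) hF₀
    exact ⟨F, hF1, hF2.1, fun D hD hle => le_antisymm (hF2.2 hD hle) hle⟩
  have hfl := h.flatHyp hc hF hmax
  have hWM : WW (VL (S : Subgroup G) L) F ≤ ML (S : Subgroup G) L :=
    NOne.Flat.Hyp.W_le_R.trans (h.o2_cent_le hF.le)
  have hW2 : IsPGroup 2 (WW (VL (S : Subgroup G) L) F : Subgroup G) :=
    (o2_isPGroup _).to_le NOne.Flat.Hyp.W_le_R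
  obtain ⟨m, hm, hmW⟩ := h.exists_conj_le hW2 hWM
  have hmN := ML_le_norm_V (S : Subgroup G) L hm
  obtain ⟨X, ⟨F', hF', hmax', rfl⟩, hXS, hXL⟩ := h.principle (F := badFam (VL (S : Subgroup G) L))
    (fun A hA n hn => badFam_cj (ML_le_norm_V (S : Subgroup G) L hn) hA)
    (badFam_cj hmN ⟨F, hF, hmax, rfl⟩) hmW (fun h1 => not_WW_le hfl (by
        rw [cj_le_iff, cj_centralizer, cj_eq_of_mem_normalizer (inv_mem hmN)] at h1
        exact h1))
  have hfl' := h.flatHyp hc hF' hmax'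
  -- `Z ≤ F'`
  have hZF : zc (S : Subgroup G) ≤ F' := by
    rw [← hfl'.cent_VW]
    refine le_inf zc_le_V ?_
    rw [Subgroup.le_centralizer_iff]
    exact hXS.trans (MinSimple.VModule.le_centralizer_zc _)
  -- `V_L ≤ E`
  have hE : zl (S : Subgroup G) L ≤ EE (VL (S : Subgroup G) L) F' := by
    refine le_inf h.zl_le_V ((le_inf hz ?_).trans (o2_inf_le (centralizer_le hZF)))
    exact h.zl_le_V.trans (h.V_comm.trans (centralizer_le hF'.le))
  exact hXL (hfl'.cent_of_le_EE (hoff _ _ hfl') (h.not_offM hXS) hE).1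

/-- **(v)** -/
theorem good (hc : IsCharacteristicTwoType G) (hoff : StmtOff G)
    (hz : zl (S : Subgroup G) L ≤ o2 (centralizer (zc (S : Subgroup G) : Set G))) {F : Subgroup G}
    (hF : F ≤ VL (S : Subgroup G) L) (hF1 : F ≠ ⊥) :
    VL (S : Subgroup G) L ≤ o2 (centralizer (F : Set G)) := by
  by_contra hcon
  exact h.not_bad hc hoff hz F ⟨hF1, hF, hcon⟩

/-- ALPHA of the union text. -/
theorem alpha (hc : IsCharacteristicTwoType G) (hoff : StmtOff G)
    (hz : zl (S : Subgroup G) L ≤ o2 (centralizer (zc (S : Subgroup G) : Set G))) :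
    Union.Alpha S L (ML (S : Subgroup G) L) :=
  ⟨h.invU, h.V_nff, fun _ hF hF1 => h.good hc hoff hz hF hF1⟩

/-- `V ≤ O₂(C_G(Z))` -/
theorem low (hc : IsCharacteristicTwoType G) (hoff : StmtOff G)
    (hz : zl (S : Subgroup G) L ≤ o2 (centralizer (zc (S : Subgroup G) : Set G)))
    (hne : zc (S : Subgroup G) ≠ ⊥) :
    VL (S : Subgroup G) L ≤ o2 (centralizer (zc (S : Subgroup G) : Set G)) :=
  h.good hc hoff hz zc_le_V hne

/-- The frame of helper25's `NoEmp.lean`. -/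
theorem lines' (hc : IsCharacteristicTwoType G) (hoff : StmtOff G)
    (hz : zl (S : Subgroup G) L ≤ o2 (centralizer (zc (S : Subgroup G) : Set G)))
    (hne : zc (S : Subgroup G) ≠ ⊥) :
    NoEmp.Lines S (WH (S : Subgroup G) L) (VL (S : Subgroup G) L) :=
  h.lines (h.low hc hoff hz hne)

end Root

end Cfsg.Agent.Omega.NO3b.Wc
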