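import Cfsg.Agent.Omega.NOThreeL.Star
import Cfsg.Agent.MinSimple.EmptyTI
import Cfsg.Agent.Omega.NO3b.NoEmp

/-!
# The w.c. frame (#16346 (B), helper672), for an arbitrary group `L` in place of `P`

`S` a Sylow 2-subgroup, `S ≤ L`, `V_L = zl S L` elementary abelian and not FF, `C_S(V_L)` normal in `L`
(`Root S L`).

* `WC S B` : `B ≤ S` is weakly closed in `S` with respect to `G`; `WC.sSup` : joins of such groups;
* `WH S L` : the largest weakly closed subgroup `W^` of `S` in `C_S(V_L)`;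
* `ML S L = N_G(W^)` contains `L` and `N_G(S)`; `VL S L = ⟨Ω₁(Z(S))^M⟩` is elementary abelian, `V_L ≤ V`;
* `Root.cs_V` : `C_S(V) = W^`; `Root.norm_le` : `N_G(T) ≤ M` for `W^ ≤ T ≤ S`; `Root.syl_le`, `Root.o2_le` :
  `O₂(X) ≤ M` for every `X ≥ W^`;
* `Root.principle` : an `M`-invariant family of 2-groups with a member in `S` which does not centralise `V` has a
  member in `S` which does not centralise `V_L`;
* `Root.nff` : `V` is not FF;
* `Root.lines` : with `V ≤ O₂(C_G(Ω₁(Z(S))))`: helper25's `NoEmp.Lines S W^ V`.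
-/

set_option autoImplicit false

namespace Cfsg.Agent.Omega.NO3b.Wc

open Subgroup Cfsg
open Cfsg.Agent.ZN (o2 zc zl jj zj)
open Cfsg.Agent.ZN.ChoiceBase hiding mem_zc
open Cfsg.Agent.ZN.ChoiceSit (exists_syl syl_conj o2_le_syl)
open Cfsg.Agent.Omega.MinPar Cfsg.Agent.Omega.Frame
open Cfsg.Agent.Omega.NO3b.EZero (NotFF cent_symm cj_cent cj_norm cj_eq_cj_iff)
open Cfsg.Agent.Omega.FFThm (ElemM OffM NoOverM)
open Cfsg.Agent.Omega.NOThreeL.Star (Opt Ok exists_opt card_sup_mul rel_mul_card)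
open Cfsg.Agent.MinSimple.VModule (zc_le_zl le_normalizer_zl zl_le zc_le mem_zc le_centralizer_zc zc_sq
  le_normalizer_o2 o2_isPGroup le_o2 zc_comm normalizer_le_normalizer_zc)

universe u

variable {G : Type u} [Group G]

/-- `B ≤ S` is weakly closed in `S`. -/
structure WC (S B : Subgroup G) : Prop where
  le : B ≤ S
  eq : ∀ g : G, cj g B ≤ S → cj g B = B

theorem cj_sSup (g : G) (B : Set (Subgroup G)) : cj g (sSup B) = ⨆ b : B, cj g (b : Subgroup G) := by
  rw [sSup_eq_iSup']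
  exact Subgroup.map_iSup _ _

theorem WC.sSup {S : Subgroup G} {B : Set (Subgroup G)} (h : ∀ b ∈ B, WC S b) : WC S (sSup B) := by
  refine ⟨sSup_le fun b hb => (h b hb).le, fun g hg => ?_⟩
  have h1 : ∀ b : B, cj g (b : Subgroup G) = b := fun b =>
    (h b b.2).eq g ((cj_mono g (le_sSup b.2)).trans hg)
  rw [cj_sSup, sSup_eq_iSup']
  exact iSup_congr h1

/-- The hypotheses. -/
structure Root [Finite G] (S : Sylow 2 G) (L : Subgroup G) : Prop where
  le : (S : Subgroup G) ≤ L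
  comm : zl (S : Subgroup G) L ≤ centralizer (zl (S : Subgroup G) L : Set G)
  sq : ∀ v ∈ zl (S : Subgroup G) L, v ^ 2 = 1
  nff : NotFF (zl (S : Subgroup G) L)
  cs : L ≤ normalizer (((S : Subgroup G) ⊓ centralizer (zl (S : Subgroup G) L : Set G) : Subgroup G) : Set G)

/-- `C_S(V_L)` -/
def QL (S L : Subgroup G) : Subgroup G := S ⊓ centralizer (zl S L : Set G)

/-- The largest weakly closed subgroup of `S` in `C_S(V_L)`. -/
def WH (S L : Subgroup G) : Subgroup G := sSup {B | WC S B ∧ B ≤ QL S L}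

/-- `M = N_G(W^)` -/
def ML (S L : Subgroup G) : Subgroup G := normalizer (WH S L : Set G)

/-- `V = ⟨Ω₁(Z(S))^M⟩` -/
def VL (S L : Subgroup G) : Subgroup G := zl S (ML S L)

theorem wc_WH (S L : Subgroup G) : WC S (WH S L) := WC.sSup fun _ hb => hb.1

theorem WH_le (S L : Subgroup G) : WH S L ≤ QL S L := sSup_le fun _ hb => hb.2

theorem WH_le_S (S L : Subgroup G) : WH S L ≤ S := (WH_le S L).trans inf_le_left

theorem le_WH {S L B : Subgroup G} (h : WC S B) (hB : B ≤ QL S L) : B ≤ WH S L := le_sSup ⟨h, hB⟩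

theorem mem_ML_of_le {S L : Subgroup G} {g : G} (h : cj g (WH S L) ≤ S) : g ∈ ML S L :=
  mem_normalizer_iff_cj.2 ((wc_WH S L).eq g h)

theorem ML_le_norm_V (S L : Subgroup G) : ML S L ≤ normalizer (VL S L : Set G) := le_normalizer_zl _ _

namespace Root

variable [Finite G] {S : Sylow 2 G} {L : Subgroup G} (h : Root S L)
include h

theorem L_le : L ≤ ML (S : Subgroup G) L := by
  intro l hl
  refine mem_ML_of_le ?_
  have h1 := cj_mono l (WH_le (S : Subgroup G) L)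
  have h2 : cj l (QL (S : Subgroup G) L) = QL (S : Subgroup G) L := cj_eq_of_mem_normalizer (h.cs hl)
  rw [h2] at h1
  exact h1.trans inf_le_left

theorem S_le : (S : Subgroup G) ≤ ML (S : Subgroup G) L := h.le.trans h.L_le

omit h in
/-- `N_G(T) ≤ M` for `W^ ≤ T ≤ S`. -/
theorem norm_le {T : Subgroup G} (h1 : WH (S : Subgroup G) L ≤ T) (h2 : T ≤ (S : Subgroup G)) :
    normalizer (T : Set G) ≤ ML (S : Subgroup G) L := by
  intro n hn
  refine mem_ML_of_le ?_
  have h3 := cj_mono n h1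
  rw [cj_eq_of_mem_normalizer hn] at h3
  exact h3.trans h2

omit h in
theorem NS_le : normalizer ((S : Subgroup G) : Set G) ≤ ML (S : Subgroup G) L := norm_le (WH_le_S _ _) le_rfl

theorem zl_le_S : zl (S : Subgroup G) L ≤ (S : Subgroup G) :=
  MinPar.le_of_le_normalizer S (NO3b.NoEmp.pgroup_of_sq h.sq) (h.le.trans (le_normalizer_zl _ _))

/-- `J(S) ≤ W^` -/
theorem jj_le : jj (S : Subgroup G) ≤ WH (S : Subgroup G) L := by
  refine le_WH ⟨ZN.ChoiceBase.jj_le _, fun g hg => ?_⟩ (le_inf (ZN.ChoiceBase.jj_le _) ?_)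
  · have h1 : jj (S : Subgroup G) ≤ cj g⁻¹ (S : Subgroup G) := cj_le_iff.1 hg
    have h2 := MinSimple.EmptyTI.jj_eq S (isPGroup_cj g⁻¹ S.isPGroup') h1
    rw [jj_cj] at h2
    have h3 := congrArg (cj g) h2
    rw [cj_cj_inv] at h3
    exact h3.symm
  · rw [ZN.ChoiceBase.jj_eq]
    refine sSup_le fun A hA => ?_
    by_contra hne
    have h1 := FFThm.off_of_AA (V := zl (S : Subgroup G) L) ⟨⟨⟨fun a b => Subtype.ext
      (mem_centralizer_iff.1 (h.comm b.2) a a.2)⟩⟩, h.sq⟩ h.zl_le_S hA hne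
    have h2 := h1.offM
    have hAS : A ≤ (S : Subgroup G) := hA.2.1
    have h3 := h.nff A (S.isPGroup'.to_le hAS) (hAS.trans (h.le.trans (le_normalizer_zl _ _))) h2.sq h2.comm hne
    exact absurd (FFThm.relIndex_le_iff.1 h2.le) (not_le.2 h3)

theorem zc_le_WH : zc (S : Subgroup G) ≤ WH (S : Subgroup G) L := fun _ hx =>
  h.jj_le (mem_zj.1 (zc_le_zj _ hx)).1

/-- `V ≤ Ω₁(Z(W^))` -/
theorem V_le : VL (S : Subgroup G) L ≤ zc (WH (S : Subgroup G) L) := by
  refine zl_le ?_ (normalizer_le_normalizer_zc _)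
  intro x hx
  have h1 := mem_zc.1 hx
  exact mem_zc.2 ⟨h.zc_le_WH hx, fun y hy => h1.2.1 y (WH_le_S _ _ hy), h1.2.2⟩

theorem V_comm : VL (S : Subgroup G) L ≤ centralizer (VL (S : Subgroup G) L : Set G) := by
  intro x hx
  rw [mem_centralizer_iff]
  intro y hy
  exact zc_comm _ _ (h.V_le hy) _ (h.V_le hx)

theorem V_sq : ∀ v ∈ VL (S : Subgroup G) L, v ^ 2 = 1 := fun v hv => zc_sq _ v (h.V_le hv)

theorem V_le_S : VL (S : Subgroup G) L ≤ (S : Subgroup G) := (h.V_le.trans (zc_le _)).trans (WH_le_S _ _)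

theorem zl_le_V : zl (S : Subgroup G) L ≤ VL (S : Subgroup G) L := NOThreeL.Star.zl_mono _ h.L_le

omit h in
theorem zc_le_V : zc (S : Subgroup G) ≤ VL (S : Subgroup G) L := zc_le_zl _ _

theorem WH_cent : WH (S : Subgroup G) L ≤ centralizer (VL (S : Subgroup G) L : Set G) :=
  cent_symm (h.V_le.trans fun x hx => mem_centralizer_iff.2 fun y hy => (mem_zc.1 hx).2.1 y hy)

/-- **`C_S(V) = W^`** -/
theorem cs_V : (S : Subgroup G) ⊓ centralizer (VL (S : Subgroup G) L : Set G) = WH (S : Subgroup G) L := by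
  refine le_antisymm (le_WH ⟨inf_le_left, fun g hg => ?_⟩ (inf_le_inf_left _ (centralizer_le h.zl_le_V)))
    (le_inf (WH_le_S _ _) h.WH_cent)
  have h1 : WH (S : Subgroup G) L ≤ (S : Subgroup G) ⊓ centralizer (VL (S : Subgroup G) L : Set G) :=
    le_inf (WH_le_S _ _) h.WH_cent
  have h2 : g ∈ ML (S : Subgroup G) L := mem_ML_of_le ((cj_mono g h1).trans hg)
  have h3 : cj g (VL (S : Subgroup G) L) = VL (S : Subgroup G) L :=
    cj_eq_of_mem_normalizer (ML_le_norm_V _ _ h2)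
  have h4 : cj g ((S : Subgroup G) ⊓ centralizer (VL (S : Subgroup G) L : Set G)) ≤
      (S : Subgroup G) ⊓ centralizer (VL (S : Subgroup G) L : Set G) := by
    refine le_inf hg ?_
    rw [cj_inf, cj_centralizer, h3]
    exact inf_le_right
  exact Subgroup.eq_of_le_of_card_ge h4 (card_cj _ _).ge

omit h in
/-- A 2-group containing `W^` lies in `M`. -/
theorem pgroup_le {T : Subgroup G} (hS : (S : Subgroup G) ≤ ML (S : Subgroup G) L) (hT : IsPGroup 2 T)
    (h1 : WH (S : Subgroup G) L ≤ T) : T ≤ ML (S : Subgroup G) L := by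
  obtain ⟨S', hS'⟩ := hT.exists_le_sylow
  obtain ⟨l, hl⟩ := MulAction.exists_smul_eq G S S'
  have hl2 : (S' : Subgroup G) = cj l (S : Subgroup G) := by
    rw [← hl, Sylow.coe_subgroup_smul]; rfl
  rw [hl2] at hS'
  have h2 : cj l⁻¹ (WH (S : Subgroup G) L) ≤ (S : Subgroup G) := by
    have h3 := cj_mono l⁻¹ (h1.trans hS')
    rwa [cj_inv_cj] at h3
  have h3 : l ∈ ML (S : Subgroup G) L := by
    have := inv_mem (mem_ML_of_le h2)
    rwa [inv_inv] at this
  refine hS'.trans ?_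
  have h4 := cj_mono l hS
  rwa [cj_eq_of_mem_normalizer (Subgroup.le_normalizer h3)] at h4

/-- **Sylow control**: `O₂(X) ≤ M` for every `X ≥ W^`. -/
theorem o2_le {X : Subgroup G} (hX : WH (S : Subgroup G) L ≤ X) : o2 X ≤ ML (S : Subgroup G) L := by
  obtain ⟨T, hT, h1⟩ := exists_syl (S.isPGroup'.to_le (WH_le_S (S : Subgroup G) L)) hX
  exact (o2_le_syl hT).trans (pgroup_le h.S_le hT.2.1 h1)

/-- `O₂(C_G(D)) ≤ M` for `D ≤ V`. -/
theorem o2_cent_le {D : Subgroup G} (hD : D ≤ VL (S : Subgroup G) L) :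
    o2 (centralizer (D : Set G)) ≤ ML (S : Subgroup G) L :=
  h.o2_le (h.WH_cent.trans (centralizer_le hD))

/-- **PRINCIPLE** (#16346 (iii)). -/
theorem principle {F : Set (Subgroup G)} (hF : ∀ A ∈ F, ∀ n ∈ ML (S : Subgroup G) L, cj n A ∈ F)
    {A : Subgroup G} (hA : A ∈ F) (hAS : A ≤ (S : Subgroup G))
    (hAV : ¬ A ≤ centralizer (VL (S : Subgroup G) L : Set G)) :
    ∃ B ∈ F, B ≤ (S : Subgroup G) ∧ ¬ B ≤ centralizer (zl (S : Subgroup G) L : Set G) := by
  by_contra hcon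
  have hcon' : ∀ B ∈ F, B ≤ (S : Subgroup G) → B ≤ centralizer (zl (S : Subgroup G) L : Set G) := by
    intro B hB hBS
    by_contra h1
    exact hcon ⟨B, hB, hBS, h1⟩
  set K : Subgroup G := WH (S : Subgroup G) L ⊔ sSup {B | B ∈ F ∧ B ≤ (S : Subgroup G)} with hK
  have hKQ : K ≤ QL (S : Subgroup G) L :=
    sup_le (WH_le _ _) (sSup_le fun B hB => le_inf hB.2 (hcon' B hB.1 hB.2))
  have hKW : K ≤ WH (S : Subgroup G) L := by
    refine le_WH ⟨hKQ.trans inf_le_left, fun g hg => ?_⟩ hKQ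
    have h2 : g ∈ ML (S : Subgroup G) L := mem_ML_of_le ((cj_mono g le_sup_left).trans hg)
    have h4 : cj g K ≤ K := by
      change Subgroup.map _ _ ≤ _
      rw [hK, Subgroup.map_sup]
      refine sup_le_sup (cj_eq_of_mem_normalizer h2).le ?_
      change cj g (sSup {B | B ∈ F ∧ B ≤ (S : Subgroup G)}) ≤ _
      rw [cj_sSup]
      refine iSup_le fun B => ?_
      have h5 : cj g (B : Subgroup G) ≤ (S : Subgroup G) :=
        (cj_mono g ((le_sSup B.2).trans le_sup_right)).trans hg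
      exact le_sSup (a := cj g (B : Subgroup G)) ⟨hF _ B.2.1 g h2, h5⟩
    exact Subgroup.eq_of_le_of_card_ge h4 (card_cj _ _).ge
  have h6 : A ≤ K := (le_sSup (s := {B | B ∈ F ∧ B ≤ (S : Subgroup G)}) ⟨hA, hAS⟩).trans le_sup_right
  exact hAV (h6.trans (hKW.trans h.WH_cent))

/-- A 2-subgroup of `M` is `M`-conjugate to a subgroup of `S`. -/
theorem exists_conj_le {A : Subgroup G} (hA : IsPGroup 2 A) (hAM : A ≤ ML (S : Subgroup G) L) :
    ∃ n ∈ ML (S : Subgroup G) L, cj n A ≤ (S : Subgroup G) :=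
  FFThm.exists_conj_le S h.S_le hA hAM

/-- **`V` is not FF.** -/
theorem V_nff : NotFF (VL (S : Subgroup G) L) := by
  by_contra hn
  obtain ⟨A0, hA0⟩ := exists_opt hn
  obtain ⟨n, hn, hnS⟩ := FFThm.exists_conj_le S (h.S_le.trans (ML_le_norm_V _ _)) hA0.pg hA0.norm
  have hA1 := hA0.cj hn
  obtain ⟨A, hA, hAS, hne⟩ := h.principle (F := {A | Opt (VL (S : Subgroup G) L) A})
    (fun A hA m hm => Opt.cj hA (ML_le_norm_V _ _ hm)) hA1 hnS hA1.ne
  obtain ⟨h1, -⟩ := Opt.exact hA h.V_comm h.zl_le_V hne le_rfl (P := A) fun hoff => by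
    exfalso
    have h3 := h.nff A hA.pg (hAS.trans (h.le.trans (le_normalizer_zl _ _))) hoff.sq hoff.comm hne
    exact absurd (FFThm.relIndex_le_iff.1 hoff.le) (not_le.2 h3)
  have h3 := h.nff A hA.pg (hAS.trans (h.le.trans (le_normalizer_zl _ _))) h1.sq h1.comm hne
  exact absurd (FFThm.relIndex_le_iff.1 h1.le) (not_le.2 h3)

/-- The frame of helper25's `NoEmp.lean`. -/
theorem lines (low : VL (S : Subgroup G) L ≤ o2 (centralizer (zc (S : Subgroup G) : Set G))) :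
    NoEmp.Lines S (WH (S : Subgroup G) L) (VL (S : Subgroup G) L) where
  JS := WH_le_S _ _
  wc := (wc_WH _ _).eq
  NJ := ML_le_norm_V _ _
  JV := h.WH_cent
  comm := h.V_comm
  sq := h.V_sq
  ZV := zc_le_V
  nff := h.V_nff
  low := low

end Root

end Cfsg.Agent.Omega.NO3b.Wc
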